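import Groth.Agent.AlgSpDec.LimDescentIso
import Groth.Agent.AlgSpLib.EtaleSmoothLocal
import Groth.Agent.AlgStLib.SpProps
import Groth.Agent.AlgSpLib.AffineDescProps
import Groth.Agent.FpqcSpace13.SigmaSep
import Groth.Agent.AlgSpDec.Glue

/-!
# Colimits among spaces separated over a base are colimits among all spaces
-/

set_option autoImplicit false
set_option backward.isDefEq.respectTransparency false
set_option backward.isDefEq.respectTransparency.types false

universe v w u

open CategoryTheory CategoryTheory.Limits AlgebraicGeometry Opposite AlgSp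

namespace Groth.Agent.SepColim

open Groth.Agent.AlgSpLib

variable {S : Scheme.{u}}

/-- A morphism from a separated scheme is separated. -/
theorem isSeparatedMor_from_scheme {B : Sp S} {Y : Over S} [Y.left.IsSeparated] (y : (yon S).obj Y ⟶ B) :
    IsSeparatedMor y := by
  let e : B ⟶ (yon S).obj (Over.mk (𝟙 S)) := (Over.mkIdTerminal.isTerminalObj (yon S) _).from B
  refine AlgStLib.isSeparatedMor_of_comp (b := e) ?_
  rw [(Over.mkIdTerminal.isTerminalObj (yon S) _).hom_ext (y ≫ e) ((yon S).map (Over.homMk Y.hom (by simp)))]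
  have : IsSeparated (Y.hom ≫ terminal.from S) := by
    rw [terminal.hom_ext (Y.hom ≫ terminal.from S) (terminal.from Y.left)]
    exact Scheme.IsSeparated.isSeparated_terminal_from
  exact isSeparatedMor_of_repWith ((repWith_yon_map_iff _ _).2 (IsSeparated.of_comp Y.hom (terminal.from S)))

variable {B : Space S} {P : ObjectProperty (Over B)}

/-- The sheaf of an object. -/
abbrev shf (X : P.FullSubcategory) : Sp S := X.obj.left.obj

/-- The structure morphism of an object. -/
abbrev str (X : P.FullSubcategory) : shf X ⟶ B.obj := X.obj.hom.hom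

/-- The morphism of sheaves of a morphism. -/
abbrev mor {X Y : P.FullSubcategory} (f : X ⟶ Y) : shf X ⟶ shf Y := f.hom.left.hom

theorem mor_str {X Y : P.FullSubcategory} (f : X ⟶ Y) : mor f ≫ str Y = str X :=
  congrArg (fun k => k.hom) (Over.w f.hom)

theorem mor_ext {X Y : P.FullSubcategory} {f g : X ⟶ Y} (h : mor f = mor g) : f = g :=
  ObjectProperty.hom_ext _ (Over.OverMorphism.ext (ObjectProperty.hom_ext _ h))

theorem mor_comp {X Y Z : P.FullSubcategory} (f : X ⟶ Y) (g : Y ⟶ Z) : mor (f ≫ g) = mor f ≫ mor g := rfl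

/-- A morphism from a morphism of sheaves over `B`. -/
def mkHom {X Y : P.FullSubcategory} (f : shf X ⟶ shf Y) (h : f ≫ str Y = str X) : X ⟶ Y :=
  ObjectProperty.homMk (Over.homMk (ObjectProperty.homMk f) (ObjectProperty.hom_ext _ h))

theorem mor_mkHom {X Y : P.FullSubcategory} (f : shf X ⟶ shf Y) (h : f ≫ str Y = str X) :
    mor (mkHom f h) = f := rfl

section

variable (hP : ∀ T : Over B, P T ↔ AlgSp.IsSeparatedMor T.hom.hom)

/-- An object from a separated morphism to `B`. -/
def mkObj (F : Sp S) (hF : IsAlgSpace F) (p : F ⟶ B.obj) (hp : IsSeparatedMor p) : P.FullSubcategory :=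
  ⟨Over.mk (ObjectProperty.homMk p : (⟨F, hF⟩ : Space S) ⟶ B), (hP _).2 hp⟩

include hP

theorem isSeparatedMor_str (X : P.FullSubcategory) : IsSeparatedMor (str X) := (hP _).1 X.property

variable {I : Type v} [Category.{w} I] {D : I ⥤ P.FullSubcategory}

/-- The system obtained by pulling back a separated etale morphism along a cocone. -/
theorem exists_sys {T : Sp S} (hT : IsAlgSpace T) (γ : ∀ i, shf (D.obj i) ⟶ T)
    (hγ : ∀ ⦃i j : I⦄ (g : i ⟶ j), mor (D.map g) ≫ γ j = γ i) (tB : T ⟶ B.obj)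
    (wγ : ∀ i, γ i ≫ tB = str (D.obj i)) {E : P.FullSubcategory} (q : shf E ⟶ T) (hq : IsEtaleMor q)
    (hqs : IsSeparatedMor q) (wq : q ≫ tB = str E) :
    ∃ (D' : I ⥤ P.FullSubcategory) (α : D' ⟶ D) (ι : D' ⟶ (Functor.const I).obj E),
      (∀ i, IsPullback (mor (ι.app i)) (mor (α.app i)) q (γ i)) ∧
      (∀ ⦃i j : I⦄ (g : i ⟶ j), IsPullback (mor (D'.map g)) (mor (α.app i)) (mor (α.app j)) (mor (D.map g))) ∧
      (∀ i, IsEtaleMor (mor (α.app i))) ∧ ∀ i, IsSeparatedMor (mor (α.app i)) := by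
  have hal : ∀ i, IsAlgSpace (pullback q (γ i)) := fun i =>
    isAlgSpace_pullback E.obj.left.property (D.obj i).obj.left.property hT q (γ i)
  have hsep : ∀ i, IsSeparatedMor (pullback.snd q (γ i)) := fun i =>
    AlgSpPts.isSeparatedMor_of_isPullback (IsPullback.of_hasPullback q (γ i)) hqs
  let O : I → P.FullSubcategory := fun i => mkObj hP (pullback q (γ i)) (hal i)
    (pullback.snd q (γ i) ≫ str (D.obj i)) (AlgSpPts.isSeparatedMor_comp (hsep i) (isSeparatedMor_str hP _))
  let M : ∀ {i j : I} (g : i ⟶ j), pullback q (γ i) ⟶ pullback q (γ j) := fun {i j} g =>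
    pullback.lift (pullback.fst _ _) (pullback.snd _ _ ≫ mor (D.map g))
      (by rw [Category.assoc, hγ g]; exact pullback.condition)
  have hM : ∀ {i j : I} (g : i ⟶ j), M g ≫ pullback.snd q (γ j) = pullback.snd q (γ i) ≫ mor (D.map g) :=
    fun g => pullback.lift_snd _ _ _
  let D' : I ⥤ P.FullSubcategory :=
    { obj := O
      map := fun {i j} g => mkHom (X := O i) (Y := O j) (M g) (by
        change M g ≫ pullback.snd q (γ j) ≫ str (D.obj j) = pullback.snd q (γ i) ≫ str (D.obj i)
        rw [← Category.assoc, hM, Category.assoc, mor_str])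
      map_id := fun i => mor_ext (pullback.hom_ext (by
          change M (𝟙 i) ≫ pullback.fst q (γ i) = 𝟙 _ ≫ pullback.fst q (γ i)
          rw [Category.id_comp]
          exact pullback.lift_fst _ _ _) (by
          change M (𝟙 i) ≫ pullback.snd q (γ i) = 𝟙 _ ≫ pullback.snd q (γ i)
          rw [hM, Category.id_comp, D.map_id]
          exact Category.comp_id _))
      map_comp := fun {i j k} g g' => mor_ext (pullback.hom_ext (by
          change M (g ≫ g') ≫ pullback.fst q (γ k) = (M g ≫ M g') ≫ pullback.fst q (γ k)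
          simp [M]) (by
          change M (g ≫ g') ≫ pullback.snd q (γ k) = (M g ≫ M g') ≫ pullback.snd q (γ k)
          rw [hM, Category.assoc, hM, ← Category.assoc, hM, Category.assoc, D.map_comp]
          rfl)) }
  let α : D' ⟶ D :=
    { app := fun i => mkHom (X := O i) (pullback.snd q (γ i)) rfl
      naturality := fun i j g => mor_ext (hM g) }
  let ι : D' ⟶ (Functor.const I).obj E :=
    { app := fun i => mkHom (X := O i) (Y := E) (pullback.fst q (γ i)) (by
        change pullback.fst q (γ i) ≫ str E = pullback.snd q (γ i) ≫ str (D.obj i)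
        rw [← wq, ← wγ i, pullback.condition_assoc])
      naturality := fun i j g => mor_ext (by
        change M g ≫ pullback.fst q (γ j) = pullback.fst q (γ i) ≫ 𝟙 _
        rw [Category.comp_id]
        exact pullback.lift_fst _ _ _) }
  refine ⟨D', α, ι, fun i => IsPullback.of_hasPullback q (γ i), fun i j g => ?_, fun i =>
    isEtaleMor_of_isPullback (IsPullback.of_hasPullback q (γ i)) E.obj.left.property hT
      (D.obj i).obj.left.property hq, hsep⟩
  refine IsPullback.of_right (h₁₂ := pullback.fst q (γ j)) (v₁₃ := q) (h₂₂ := γ j) ?_ (hM g)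
    (IsPullback.of_hasPullback q (γ j))
  change IsPullback (M g ≫ pullback.fst q (γ j)) (pullback.snd q (γ i)) q (mor (D.map g) ≫ γ j)
  rw [show M g ≫ pullback.fst q (γ j) = pullback.fst q (γ i) from pullback.lift_fst _ _ _, hγ g]
  exact IsPullback.of_hasPullback q (γ i)

omit hP

/-- A space has an etale surjection from a separated scheme. -/
theorem exists_separated_atlas {T : Sp S} (hT : IsAlgSpace T) :
    ∃ (Y : Over S) (q : (yon S).obj Y ⟶ T), Y.left.IsSeparated ∧ RepWith @Etale q ∧ RepWith @Surjective q := by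
  obtain ⟨U₀, p₀, hp₀, hp₀'⟩ := hT.atlas
  let 𝒰 := U₀.left.affineOpenCover
  let Z : 𝒰.I₀ → Over S := fun i => Over.mk (𝒰.f i ≫ U₀.hom)
  have : ∀ i, IsAffine (Z i).left := fun i => inferInstanceAs (IsAffine (Spec _))
  let σ : AlgSpDec.sigmaOver Z ⟶ U₀ := Over.homMk (Sigma.desc 𝒰.f) (Sigma.hom_ext _ _ fun i => by
      rw [← Category.assoc, Sigma.ι_desc]
      exact (Sigma.ι_desc (fun i => (Z i).hom) i).symm)
  have hdesc : Etale (Sigma.desc 𝒰.f) := IsZariskiLocalAtSource.sigmaDesc (P := @Etale) fun i => by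
    have : IsOpenImmersion (𝒰.f i) := 𝒰.openCover.map_prop i
    infer_instance
  refine ⟨AlgSpDec.sigmaOver Z, (yon S).map σ ≫ p₀, FpqcSpace13.isSeparated_sigma fun i => (Z i).left,
    repWith_comp ((repWith_yon_map_iff _ σ).2 hdesc) hp₀, repWith_comp ((repWith_yon_map_iff _ σ).2 ⟨fun x => ?_⟩) hp₀'⟩
  obtain ⟨i, y, hy⟩ := 𝒰.openCover.exists_eq x
  refine ⟨(AlgSpDec.sigmaι Z i).left y, ?_⟩
  exact Eq.trans (congrArg (fun q : Spec _ ⟶ U₀.left => q y) (Sigma.ι_desc 𝒰.f i)) hy

end

/-- A colimit among separated spaces over `B`, stable under etale separated base change, is one among all spaces. -/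
theorem nonempty_isColimit {P : ObjectProperty (Over B)}
    (hP : ∀ T : Over B, P T ↔ AlgSp.IsSeparatedMor T.hom.hom) {I : Type v} [Category.{w} I]
    (D : I ⥤ P.FullSubcategory) (c : Cocone D)
    (h₃ : ∀ x : Points (shf c.pt), ∃ (i : I) (y : Points (shf (D.obj i))), Points.map (mor (c.ι.app i)) y = x)
    (h₄ : ∀ (D' : I ⥤ P.FullSubcategory) (α : D' ⟶ D) (c' : Cocone D') (a : c'.pt ⟶ c.pt),
      IsEtaleMor (mor a) → IsSeparatedMor (mor a) →
      (∀ i, IsPullback (mor (c'.ι.app i)) (mor (α.app i)) (mor a) (mor (c.ι.app i))) → Nonempty (IsColimit c'))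
    (h₅ : ∀ (D' : I ⥤ P.FullSubcategory) (α : D' ⟶ D),
      (∀ ⦃i j : I⦄ (g : i ⟶ j), IsPullback (mor (D'.map g)) (mor (α.app i)) (mor (α.app j)) (mor (D.map g))) →
      (∀ i, IsEtaleMor (mor (α.app i))) → (∀ i, IsSeparatedMor (mor (α.app i))) →
        ∃ (c' : Cocone D') (a : c'.pt ⟶ c.pt), IsEtaleMor (mor a) ∧ IsSeparatedMor (mor a) ∧
          ∀ i, IsPullback (mor (c'.ι.app i)) (mor (α.app i)) (mor a) (mor (c.ι.app i))) :
    Nonempty (IsColimit (P.ι.mapCocone c)) := by
  refine ⟨IsColimit.ofExistsUnique fun s => ?_⟩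
  let Cp := shf c.pt
  have hC : IsAlgSpace Cp := c.pt.obj.left.property
  let Tg : Sp S := s.pt.left.obj
  let tB : Tg ⟶ B.obj := s.pt.hom.hom
  have hT : IsAlgSpace Tg := s.pt.left.property
  let γ : ∀ i, shf (D.obj i) ⟶ Tg := fun i => (s.ι.app i).left.hom
  have hγ : ∀ ⦃i j : I⦄ (g : i ⟶ j), mor (D.map g) ≫ γ j = γ i := fun i j g =>
    congrArg (fun k => k.hom) (congrArg CommaMorphism.left (s.w g))
  have wγ : ∀ i, γ i ≫ tB = str (D.obj i) := fun i => congrArg (fun k => k.hom) (Over.w (s.ι.app i))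
  have hc : ∀ ⦃i j : I⦄ (g : i ⟶ j), mor (D.map g) ≫ mor (c.ι.app j) = mor (c.ι.app i) := fun i j g =>
    (mor_comp _ _).symm.trans (congrArg mor (c.w g))
  -- a separated atlas of the target
  obtain ⟨Y, qY, hY, hqY, hqYs⟩ := exists_separated_atlas hT
  have hqe : IsEtaleMor qY := isEtaleMor_of_repWith hqY
  have hqsep : IsSeparatedMor qY := isSeparatedMor_from_scheme qY
  let Yo : P.FullSubcategory := mkObj hP ((yon S).obj Y) (IsAlgSpace.yon_obj Y) (qY ≫ tB)
    (isSeparatedMor_from_scheme _)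
  obtain ⟨DU, αU, ιU, sqU, cartU, etU, sepU⟩ := exists_sys hP hT γ hγ tB wγ (E := Yo) qY hqe hqsep rfl
  obtain ⟨cU, a, hae, has, sqa⟩ := h₅ DU αU cartU etU sepU
  obtain ⟨hcU⟩ := h₄ DU αU cU a hae has sqa
  have hU : IsAlgSpace (shf cU.pt) := cU.pt.obj.left.property
  let y : cU.pt ⟶ Yo := hcU.desc (Cocone.mk Yo ιU)
  have hy : ∀ i, cU.ι.app i ≫ y = ιU.app i := hcU.fac (Cocone.mk Yo ιU)
  -- surjectivity
  have hαs : ∀ i, Function.Surjective (Points.map (mor (αU.app i))) := fun i =>
    surjective_map_of_repWith (repWith_of_isPullback (sqU i) hqYs)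
  have hαepi : ∀ i, Epi (mor (αU.app i)) := fun i =>
    AlgSpDec.epi_of_etale_surjective (DU.obj i).obj.left.property (D.obj i).obj.left.property _ (etU i) (hαs i)
  have hasurj : IsSurjectiveMor (mor a) := fun x => by
    obtain ⟨i, z, rfl⟩ := h₃ x
    obtain ⟨z, rfl⟩ := hαs i z
    exact ⟨Points.map (mor (cU.ι.app i)) z, by rw [← Points.map_comp, (sqa i).w, Points.map_comp]⟩
  have : Epi (mor a) := AlgSpDec.epi_of_etale_surjective hU hC _ hae hasurj
  -- agreement on the kernel pair
  let p₁ : pullback (mor a) (mor a) ⟶ shf cU.pt := pullback.fst _ _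
  let p₂ : pullback (mor a) (mor a) ⟶ shf cU.pt := pullback.snd _ _
  have hp₁e : IsEtaleMor p₁ := isEtaleMor_of_isPullback (IsPullback.of_hasPullback (mor a) (mor a)).flip hU hC hU hae
  have hp₁s : IsSeparatedMor p₁ :=
    AlgSpPts.isSeparatedMor_of_isPullback (IsPullback.of_hasPullback (mor a) (mor a)).flip has
  let Ro : P.FullSubcategory := mkObj hP (pullback (mor a) (mor a)) (isAlgSpace_pullback hU hU hC _ _)
    (p₁ ≫ str cU.pt) (AlgSpPts.isSeparatedMor_comp hp₁s (isSeparatedMor_str hP _))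
  let aR : Ro ⟶ c.pt := mkHom (X := Ro) (p₁ ≫ mor a) (by rw [Category.assoc, mor_str]; rfl)
  have haRe : IsEtaleMor (mor aR) := isEtaleMor_comp (Ro.obj.left.property) hU hC hp₁e hae
  have haRs : IsSeparatedMor (mor aR) := AlgSpPts.isSeparatedMor_comp hp₁s has
  obtain ⟨DR, αR, ιR, sqR, -, -, -⟩ := exists_sys hP hC (fun i => mor (c.ι.app i)) hc (str c.pt)
    (fun i => mor_str _) (E := Ro) (mor aR) haRe haRs (mor_str aR)
  obtain ⟨hR⟩ := h₄ DR αR (Cocone.mk Ro ιR) aR haRe haRs sqR
  let Wo : P.FullSubcategory := mkObj hP (pullback qY qY)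
    (isAlgSpace_pullback (IsAlgSpace.yon_obj Y) (IsAlgSpace.yon_obj Y) hT _ _) (pullback.fst qY qY ≫ qY ≫ tB)
    (AlgSpPts.isSeparatedMor_comp (AlgSpPts.isSeparatedMor_of_isPullback
      (IsPullback.of_hasPullback qY qY).flip hqsep) (isSeparatedMor_from_scheme _))
  have hw₁ : ∀ i, (mor (ιR.app i) ≫ p₁) ≫ mor a = mor (αR.app i) ≫ mor (c.ι.app i) := fun i => by
    rw [Category.assoc]; exact (sqR i).w
  have hw₂ : ∀ i, (mor (ιR.app i) ≫ p₂) ≫ mor a = mor (αR.app i) ≫ mor (c.ι.app i) := fun i => by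
    rw [Category.assoc, ← pullback.condition]; exact (sqR i).w
  let r₁ : ∀ i, shf (DR.obj i) ⟶ shf (DU.obj i) := fun i => (sqa i).lift _ _ (hw₁ i)
  let r₂ : ∀ i, shf (DR.obj i) ⟶ shf (DU.obj i) := fun i => (sqa i).lift _ _ (hw₂ i)
  have hr₁y : ∀ i, r₁ i ≫ mor (ιU.app i) = mor (ιR.app i) ≫ p₁ ≫ mor y := fun i => by
    rw [← hy i, mor_comp, (sqa i).lift_fst_assoc, Category.assoc]
  have hr₂y : ∀ i, r₂ i ≫ mor (ιU.app i) = mor (ιR.app i) ≫ p₂ ≫ mor y := fun i => by
    rw [← hy i, mor_comp, (sqa i).lift_fst_assoc, Category.assoc]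
  let rW : ∀ i, shf (DR.obj i) ⟶ pullback qY qY := fun i =>
    pullback.lift (r₁ i ≫ mor (ιU.app i)) (r₂ i ≫ mor (ιU.app i)) (by
      rw [Category.assoc, Category.assoc, (sqU i).w, (sqa i).lift_snd_assoc, (sqa i).lift_snd_assoc])
  have hrW : ∀ i, rW i ≫ pullback.fst qY qY ≫ qY ≫ tB = str (DR.obj i) := fun i => by
    have e : str (DR.obj i) = mor (ιR.app i) ≫ p₁ ≫ str cU.pt := (mor_str (ιR.app i)).symm
    have e' : mor y ≫ qY ≫ tB = str cU.pt := mor_str y
    rw [pullback.lift_fst_assoc, hr₁y, e, Category.assoc, Category.assoc, e']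
  let κ : DR ⟶ (Functor.const I).obj Wo :=
    { app := fun i => mkHom (X := DR.obj i) (Y := Wo) (rW i) (hrW i)
      naturality := fun i j g => mor_ext (by
        change mor (DR.map g) ≫ rW j = rW i ≫ 𝟙 _
        rw [Category.comp_id]
        have hn : mor (DR.map g) ≫ mor (ιR.app j) = mor (ιR.app i) :=
          (mor_comp _ _).symm.trans ((congrArg mor (ιR.naturality g)).trans (Category.comp_id _))
        apply pullback.hom_ext
        · simp only [rW, Category.assoc, pullback.lift_fst, hr₁y]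
          rw [reassoc_of% hn]
        · simp only [rW, Category.assoc, pullback.lift_snd, hr₂y]
          rw [reassoc_of% hn]) }
  let k : Ro ⟶ Wo := hR.desc (Cocone.mk Wo κ)
  have hk : ∀ i, ιR.app i ≫ k = κ.app i := hR.fac (Cocone.mk Wo κ)
  have hp₁B : p₁ ≫ str cU.pt = str Ro := rfl
  have hp₂B : p₂ ≫ str cU.pt = str Ro := by
    rw [← hp₁B, ← mor_str a, ← pullback.condition_assoc]
  let P₁ : Ro ⟶ cU.pt := mkHom (X := Ro) p₁ hp₁B
  let P₂ : Ro ⟶ cU.pt := mkHom (X := Ro) p₂ hp₂B
  let F₁ : Wo ⟶ Yo := mkHom (X := Wo) (Y := Yo) (pullback.fst qY qY) rfl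
  let F₂ : Wo ⟶ Yo := mkHom (X := Wo) (Y := Yo) (pullback.snd qY qY)
    (show pullback.snd qY qY ≫ qY ≫ tB = pullback.fst qY qY ≫ qY ≫ tB from
      (pullback.condition_assoc (f := qY) (g := qY) tB).symm)
  have hk₁ : k ≫ F₁ = P₁ ≫ y := hR.hom_ext fun i => mor_ext (by
    have e := congrArg mor (hk i)
    rw [mor_comp] at e
    change mor (ιR.app i) ≫ mor k ≫ pullback.fst qY qY = mor (ιR.app i) ≫ p₁ ≫ mor y
    rw [reassoc_of% e]
    exact (pullback.lift_fst _ _ _).trans (hr₁y i))
  have hk₂ : k ≫ F₂ = P₂ ≫ y := hR.hom_ext fun i => mor_ext (by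
    have e := congrArg mor (hk i)
    rw [mor_comp] at e
    change mor (ιR.app i) ≫ mor k ≫ pullback.snd qY qY = mor (ιR.app i) ≫ p₂ ≫ mor y
    rw [reassoc_of% e]
    exact (pullback.lift_snd _ _ _).trans (hr₂y i))
  have hagree : p₁ ≫ mor y ≫ qY = p₂ ≫ mor y ≫ qY := by
    have e₁ : mor k ≫ pullback.fst qY qY = p₁ ≫ mor y := congrArg mor hk₁
    have e₂ : mor k ≫ pullback.snd qY qY = p₂ ≫ mor y := congrArg mor hk₂
    rw [← reassoc_of% e₁, ← reassoc_of% e₂, pullback.condition]
  -- descent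
  have : EffectiveEpi (mor a) := by
    have := IsRegularEpiCategory.regularEpiOfEpi (mor a)
    infer_instance
  obtain ⟨g₀, hg₀⟩ : ∃ g₀, mor a ≫ g₀ = mor y ≫ qY := ⟨EffectiveEpi.desc (mor a) (mor y ≫ qY) (fun {Q} g₁ g₂ h => by
    have := congrArg (pullback.lift g₁ g₂ h ≫ ·) hagree
    simpa [p₁, p₂] using this), EffectiveEpi.fac (mor a) _ _⟩
  have hg₀B : g₀ ≫ tB = str c.pt := by
    rw [← cancel_epi (mor a), mor_str, reassoc_of% hg₀]
    exact mor_str y
  have hg₀c : ∀ i, mor (c.ι.app i) ≫ g₀ = γ i := fun i => by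
    have := hαepi i
    rw [← cancel_epi (mor (αU.app i)), ← reassoc_of% (sqa i).w, hg₀, ← (sqU i).w, ← Category.assoc,
      ← mor_comp, hy i]
  -- uniqueness
  have uniq : ∀ g g' : Cp ⟶ Tg, g ≫ tB = str c.pt → g' ≫ tB = str c.pt →
      (∀ i, mor (c.ι.app i) ≫ g = γ i) → (∀ i, mor (c.ι.app i) ≫ g' = γ i) → g = g' := by
    intro g g' hgB hg'B hg hg'
    have hfe : IsEtaleMor (pullback.fst g qY) :=
      isEtaleMor_of_isPullback (IsPullback.of_hasPullback g qY).flip (IsAlgSpace.yon_obj Y) hT hC hqe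
    have hfs : IsSeparatedMor (pullback.fst g qY) :=
      AlgSpPts.isSeparatedMor_of_isPullback (IsPullback.of_hasPullback g qY).flip hqsep
    let G : P.FullSubcategory := mkObj hP (pullback g qY) (isAlgSpace_pullback hC (IsAlgSpace.yon_obj Y) hT _ _)
      (pullback.fst g qY ≫ str c.pt) (AlgSpPts.isSeparatedMor_comp hfs (isSeparatedMor_str hP _))
    have hfe' : IsEtaleMor (pullback.fst g' qY) :=
      isEtaleMor_of_isPullback (IsPullback.of_hasPullback g' qY).flip (IsAlgSpace.yon_obj Y) hT hC hqe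
    have hfs' : IsSeparatedMor (pullback.fst g' qY) :=
      AlgSpPts.isSeparatedMor_of_isPullback (IsPullback.of_hasPullback g' qY).flip hqsep
    let G' : P.FullSubcategory := mkObj hP (pullback g' qY) (isAlgSpace_pullback hC (IsAlgSpace.yon_obj Y) hT _ _)
      (pullback.fst g' qY ≫ str c.pt) (AlgSpPts.isSeparatedMor_comp hfs' (isSeparatedMor_str hP _))
    let aG : G ⟶ c.pt := mkHom (X := G) (pullback.fst g qY) rfl
    obtain ⟨DG, αG, ιG, sqG, -, -, -⟩ := exists_sys hP hC (fun i => mor (c.ι.app i)) hc (str c.pt)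
      (fun i => mor_str _) (E := G) (mor aG) hfe hfs rfl
    obtain ⟨hG⟩ := h₄ DG αG (Cocone.mk G ιG) aG hfe hfs sqG
    let F : G ⟶ Yo := mkHom (X := G) (Y := Yo) (pullback.snd g qY) (by
      change pullback.snd g qY ≫ qY ≫ tB = pullback.fst g qY ≫ str c.pt
      rw [← pullback.condition_assoc, hgB])
    let F' : G' ⟶ Yo := mkHom (X := G') (Y := Yo) (pullback.snd g' qY) (by
      change pullback.snd g' qY ≫ qY ≫ tB = pullback.fst g' qY ≫ str c.pt
      rw [← pullback.condition_assoc, hg'B])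
    let aG' : G' ⟶ c.pt := mkHom (X := G') (pullback.fst g' qY) rfl
    let σ : ∀ i, shf (DG.obj i) ⟶ pullback g' qY := fun i =>
      pullback.lift (mor (ιG.app i) ≫ pullback.fst g qY) (mor (ιG.app i) ≫ pullback.snd g qY) (by
        have e : mor (ιG.app i) ≫ pullback.fst g qY = mor (αG.app i) ≫ mor (c.ι.app i) := (sqG i).w
        have l : (mor (ιG.app i) ≫ pullback.fst g qY) ≫ g' = mor (αG.app i) ≫ γ i := by
          rw [e, Category.assoc, hg']
        have r : (mor (ιG.app i) ≫ pullback.snd g qY) ≫ qY = mor (αG.app i) ≫ γ i := by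
          rw [Category.assoc, ← pullback.condition, ← Category.assoc, e, Category.assoc, hg]
        exact l.trans r.symm)
    let κG : DG ⟶ (Functor.const I).obj G' :=
      { app := fun i => mkHom (X := DG.obj i) (Y := G') (σ i) (by
          change σ i ≫ pullback.fst g' qY ≫ str c.pt = str (DG.obj i)
          rw [pullback.lift_fst_assoc, Category.assoc]
          exact mor_str (ιG.app i))
        naturality := fun i j m => mor_ext (by
          change mor (DG.map m) ≫ σ j = σ i ≫ 𝟙 _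
          rw [Category.comp_id]
          have hn : mor (DG.map m) ≫ mor (ιG.app j) = mor (ιG.app i) :=
            (mor_comp _ _).symm.trans ((congrArg mor (ιG.naturality m)).trans (Category.comp_id _))
          apply pullback.hom_ext
          · simp only [σ, Category.assoc, pullback.lift_fst]
            rw [reassoc_of% hn]
          · simp only [σ, Category.assoc, pullback.lift_snd]
            rw [reassoc_of% hn]) }
    let m : G ⟶ G' := hG.desc (Cocone.mk G' κG)
    have hm : ∀ i, ιG.app i ≫ m = κG.app i := hG.fac (Cocone.mk G' κG)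
    have hm₁ : m ≫ aG' = aG := hG.hom_ext fun i => mor_ext (by
      have e := congrArg mor (hm i)
      rw [mor_comp] at e
      change mor (ιG.app i) ≫ mor m ≫ pullback.fst g' qY = mor (ιG.app i) ≫ pullback.fst g qY
      rw [reassoc_of% e]
      exact pullback.lift_fst _ _ _)
    have hm₂ : m ≫ F' = F := hG.hom_ext fun i => mor_ext (by
      have e := congrArg mor (hm i)
      rw [mor_comp] at e
      change mor (ιG.app i) ≫ mor m ≫ pullback.snd g' qY = mor (ιG.app i) ≫ pullback.snd g qY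
      rw [reassoc_of% e]
      exact pullback.lift_snd _ _ _)
    have : Epi (pullback.fst g qY) := AlgSpLib.epi_of_etale_surjective (repWith_fst g hqY) (repWith_fst g hqYs)
    have e₁ : mor m ≫ pullback.fst g' qY = pullback.fst g qY := congrArg mor hm₁
    have e₂ : mor m ≫ pullback.snd g' qY = pullback.snd g qY := congrArg mor hm₂
    rw [← cancel_epi (pullback.fst g qY)]
    conv_rhs => rw [← e₁, Category.assoc, pullback.condition, reassoc_of% e₂]
    exact pullback.condition
  refine ⟨Over.homMk (ObjectProperty.homMk g₀) (ObjectProperty.hom_ext _ hg₀B),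
    fun i => Over.OverMorphism.ext (ObjectProperty.hom_ext _ (hg₀c i)), fun m hm => ?_⟩
  refine Over.OverMorphism.ext (ObjectProperty.hom_ext _ (uniq m.left.hom g₀ ?_ hg₀B (fun i => ?_) hg₀c))
  · exact congrArg (fun k => k.hom) (Over.w m)
  · exact congrArg (fun k => k.hom) (congrArg CommaMorphism.left (hm i))

end Groth.Agent.SepColim
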